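import Cfsg.Agent.H539.Lim.Defs
import Cfsg.Agent.H215.Timm
import Cfsg.Agent.PLocal.Timmesfeld

/-!
# S5242, D2: Timmesfeld replacement for best offenders, `p` odd (helper296, task 5206)

`exists_good_of_BO` : a nontrivial best offender `A` on a finite abelian `p`-group `D` contains a nontrivial best
offender `B` with `[D, B, B] = 0` (so `NGood`) and `|B| |D^B| = |A| |D^A|`.
-/

set_option autoImplicit false
set_option linter.unusedSectionVars false

namespace Cfsg.Agent.H296.Lim

open Cfsg.Agent.H539.Lim Cfsg.Agent.H215.Timm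

variable {G : Type*} [Group G] {D : Type*} [AddCommGroup D] [DistribMulAction G D]

/-- the measure `|C_A(L)| |L|` -/
noncomputable def ms (A : Subgroup G) (L : AddSubgroup D) : ℕ := Nat.card (kr A L) * Nat.card L

theorem kr_anti {A : Subgroup G} {L L' : AddSubgroup D} (h : L ≤ L') : kr A L' ≤ kr A L :=
  fun _ hx => ⟨hx.1, fun v hv => hx.2 v (h hv)⟩

theorem kr_sup {A : Subgroup G} (L L' : AddSubgroup D) : kr A L ⊓ kr A L' = kr A (L ⊔ L') := by
  apply le_antisymm
  · rintro x ⟨h1, h2⟩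
    refine ⟨h1.1, fun v hv => ?_⟩
    obtain ⟨a, ha, b, hb, rfl⟩ := AddSubgroup.mem_sup.1 hv
    rw [smul_add, h1.2 a ha, h2.2 b hb]
  · exact le_inf (kr_anti le_sup_left) (kr_anti le_sup_right)

theorem mem_DFix {A : Subgroup G} {v : D} : v ∈ DFix A D ↔ ∀ a ∈ A, a • v = v := Iff.rfl

/-- `[v, A]` -/
def cm (A : Subgroup G) (v : D) : AddSubgroup D := AddSubgroup.closure {w | ∃ b ∈ A, w = b • v - v}

theorem mem_cm {A : Subgroup G} {v : D} {b : G} (hb : b ∈ A) : b • v - v ∈ cm A v :=
  AddSubgroup.subset_closure ⟨b, hb, rfl⟩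

variable [Finite G] [Finite D]

theorem ms_super (A : Subgroup G) (L L' : AddSubgroup D) : ms A L * ms A L' ≤ ms A (L ⊔ L') * ms A (L ⊓ L') := by
  have h1 := PLocal.Timmesfeld.card_mul_card_le (B₁ := kr A L) (B₂ := kr A L') (B₃ := kr A (L ⊓ L'))
    (kr_anti inf_le_left) (kr_anti inf_le_right)
  rw [kr_sup] at h1
  have h2 := H263.FF.Basic.card_sup_inf L L'
  unfold ms
  calc _ = (Nat.card (kr A L) * Nat.card (kr A L')) * (Nat.card L * Nat.card L') := by ring
    _ ≤ (Nat.card (kr A (L ⊔ L')) * Nat.card (kr A (L ⊓ L'))) * (Nat.card L * Nat.card L') := Nat.mul_le_mul_right _ h1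
    _ = _ := by rw [← h2]; ring

theorem ms_le {A : Subgroup G} (hAB : BO D A) (L : AddSubgroup D) : ms A L ≤ Nat.card A * Nat.card (DFix A D) := by
  refine le_trans (Nat.mul_le_mul_left _ ?_) (hAB.2 (kr A L) kr_le)
  exact H263.FF.Basic.card_le fun v hv u hu => hu.2 v hv

theorem le_ms_cm {A : Subgroup G} (hA : IsAb A) (v : D) :
    Nat.card A * Nat.card (DFix A D) ≤ ms A (cm A v ⊔ DFix A D) := by
  refine H263.FF.Basic.card_fib (A := A) (S := kr A (cm A v ⊔ DFix A D)) (C := DFix A D)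
    (W := cm A v ⊔ DFix A D) le_sup_right (fun b => b • v - v) (fun b hb => le_sup_left (a := cm A v) (mem_cm hb)) ?_
  intro a ha b hb hab
  have hx : b⁻¹ * a ∈ A := mul_mem (inv_mem hb) ha
  have h1 : (b⁻¹ * a) • v - v ∈ DFix A D := by
    intro d hd
    have e : (b⁻¹ * a) • v - v = b⁻¹ • ((a • v - v) - (b • v - v)) := by
      rw [sub_sub_sub_cancel_right, smul_sub, inv_smul_smul, mul_smul]
    rw [e, hab _ (inv_mem hb), hab d hd]
  rw [← kr_sup]
  refine ⟨⟨hx, fun w hw => ?_⟩, hx, fun w hw => hw _ hx⟩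
  have h2 : cm A v ≤ AddSubgroup.comap (DistribSMul.toAddMonoidHom D (b⁻¹ * a) - AddMonoidHom.id D) ⊥ := by
    unfold cm
    rw [AddSubgroup.closure_le]
    rintro _ ⟨c, hc, rfl⟩
    change (b⁻¹ * a) • (c • v - v) - (c • v - v) = 0
    have h3 := h1 c hc
    have e1 : (b⁻¹ * a) • (c • v - v) = c • ((b⁻¹ * a) • v - v) + (c • v - v) - ((b⁻¹ * a) • v - v) := by
      rw [smul_sub, smul_sub, smul_smul, smul_smul, hA _ hx c hc]
      abel
    rw [e1, h3]
    abel
  have h3 : (b⁻¹ * a) • w - w = 0 := h2 hw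
  exact sub_eq_zero.1 h3

/-- fixed points modulo an invariant subgroup -/
theorem exists_fixed' {p : ℕ} [hp : Fact p.Prime] {T : Subgroup G} (hT : IsPGroup p T)
    {K : AddSubgroup D} (hK : ∀ t ∈ T, ∀ v ∈ K, t • v ∈ K) (hw : ∃ w, w ∉ K ∧ p • w ∈ K) :
    ∃ v, v ∉ K ∧ ∀ t ∈ T, t • v - v ∈ K := by
  classical
  have key : ∀ (t : T) (v : D), H263.FF.Basic.qact K (t : G) (hK t t.2) (QuotientAddGroup.mk v) =
      QuotientAddGroup.mk ((t : G) • v) := fun t v => rfl
  let act : MulAction T (D ⧸ K) :=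
    { smul := fun t q => H263.FF.Basic.qact K (t : G) (hK t t.2) q
      one_smul := by
        intro q
        induction q using QuotientAddGroup.induction_on with
        | H v =>
          change H263.FF.Basic.qact K ((1 : T) : G) (hK (1 : T) (1 : T).2) (QuotientAddGroup.mk v) = QuotientAddGroup.mk v
          rw [key]; simp
      mul_smul := by
        intro s t q
        induction q using QuotientAddGroup.induction_on with
        | H v =>
          change H263.FF.Basic.qact K ((s * t : T) : G) (hK (s * t : T) (s * t : T).2) (QuotientAddGroup.mk v) =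
            H263.FF.Basic.qact K (s : G) (hK s s.2) (H263.FF.Basic.qact K (t : G) (hK t t.2) (QuotientAddGroup.mk v))
          rw [key, key, key]; simp [mul_smul] }
  have hcard : p ∣ Nat.card (D ⧸ K) := by
    obtain ⟨w, hwK, hpw⟩ := hw
    have ho : addOrderOf (QuotientAddGroup.mk w : D ⧸ K) = p := by
      apply addOrderOf_eq_prime
      · rw [← QuotientAddGroup.mk_nsmul]
        exact (QuotientAddGroup.eq_zero_iff _).2 hpw
      · intro h
        exact hwK ((QuotientAddGroup.eq_zero_iff w).1 h)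
    rw [← ho]
    exact addOrderOf_dvd_natCard _
  have h0 : (0 : D ⧸ K) ∈ MulAction.fixedPoints T (D ⧸ K) := fun t => map_zero (H263.FF.Basic.qact K (t : G) (hK t t.2))
  obtain ⟨q, hq, hq0⟩ := hT.exists_fixed_point_of_prime_dvd_card_of_fixed_point (D ⧸ K) hcard h0
  induction q using QuotientAddGroup.induction_on with
  | H v =>
    refine ⟨v, fun hv => hq0 ((QuotientAddGroup.eq_zero_iff v).2 hv).symm, fun t ht => ?_⟩
    have h1 : (QuotientAddGroup.mk (t • v) : D ⧸ K) = QuotientAddGroup.mk v := hq ⟨t, ht⟩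
    rw [eq_comm, QuotientAddGroup.eq] at h1
    rwa [sub_eq_neg_add]

/-- a `p`-group acting nontrivially: an invariant proper subgroup containing `D^A` and `[D, A]` -/
theorem exists_proper' {p : ℕ} [hp : Fact p.Prime] (hD : IsPTors p D) {A : Subgroup G} (hA : IsPGroup p A)
    (hne : DFix A D ≠ ⊤) : ∃ K : AddSubgroup D, DFix A D ≤ K ∧ K ≠ ⊤ ∧ ∀ b ∈ A, ∀ v : D, b • v - v ∈ K := by
  obtain ⟨K, ⟨hK1, hK2, hK3⟩, hmax⟩ := (Set.toFinite {K : AddSubgroup D | DFix A D ≤ K ∧ K ≠ ⊤ ∧
    ∀ b ∈ A, ∀ v ∈ K, b • v ∈ K}).exists_maximal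
    ⟨DFix A D, le_rfl, hne, fun b hb v hv => by rw [hv b hb]; exact hv⟩
  refine ⟨K, hK1, hK2, ?_⟩
  have hw : ∃ w, w ∉ K ∧ p • w ∈ K := by
    obtain ⟨v, hv⟩ : ∃ v, v ∉ K := by
      by_contra hcon
      push Not at hcon
      exact hK2 (eq_top_iff.2 fun v _ => hcon v)
    obtain ⟨k, hk⟩ := hD v
    by_contra hcon
    push Not at hcon
    have h1 : ∀ j : ℕ, (p ^ j : ℕ) • v ∉ K := by
      intro j
      induction j with
      | zero => rw [pow_zero, one_smul]; exact hv
      | succ j ih =>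
        rw [pow_succ', mul_smul]
        exact hcon _ ih
    exact h1 k (by rw [hk]; exact K.zero_mem)
  obtain ⟨v₁, hv₁K, hv₁'⟩ := exists_fixed' hA hK3 hw
  let E : AddSubgroup D :=
    { carrier := {v | ∀ b ∈ A, b • v - v ∈ K}
      zero_mem' := fun t ht => by rw [smul_zero, sub_zero]; exact zero_mem _
      add_mem' := fun {a b} ha hb t ht => by
        have := K.add_mem (ha t ht) (hb t ht)
        rw [smul_add]; convert this using 1; abel
      neg_mem' := fun {a} ha t ht => by
        have := K.neg_mem (ha t ht)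
        rw [smul_neg]; convert this using 1; abel }
  have hKE : K ≤ E := fun v hv b hb => K.sub_mem (hK3 b hb v hv) hv
  have hE : E = ⊤ := by
    by_contra hne'
    have h1 : E ∈ {K : AddSubgroup D | DFix A D ≤ K ∧ K ≠ ⊤ ∧ ∀ b ∈ A, ∀ v ∈ K, b • v ∈ K} := by
      refine ⟨hK1.trans hKE, hne', fun b hb v hv => ?_⟩
      have h2 := hv b hb
      have h3 : b • v = (b • v - v) + v := by abel
      rw [h3]
      exact E.add_mem (hKE h2) hv
    exact hv₁K (hmax h1 hKE hv₁')
  intro b hb v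
  have h1 : v ∈ E := by rw [hE]; trivial
  exact h1 b hb

/-- **Timmesfeld replacement**, `p` odd. -/
theorem exists_good_of_BO {p : ℕ} [hp : Fact p.Prime] (hp2 : p ≠ 2) (hD : IsPTors p D)
    {A : Subgroup G} (hA : IsPGroup p A) (hAB : BO D A) (h1 : A ≠ ⊥) :
    ∃ B : Subgroup G, B ≤ A ∧ B ≠ ⊥ ∧ BO D B ∧ NGood p D B ∧
      Nat.card B * Nat.card (DFix B D) = Nat.card A * Nat.card (DFix A D) := by
  classical
  have : Fintype D := Fintype.ofFinite D
  set m := Nat.card A * Nat.card (DFix A D) with hm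
  have hm0 : 0 < m := Nat.mul_pos Nat.card_pos Nat.card_pos
  set RR : AddSubgroup D := Finset.univ.sup (cm A) with hRR
  have hmem : ∀ b ∈ A, ∀ v : D, b • v - v ∈ RR := fun b hb v =>
    Finset.le_sup (f := cm A) (Finset.mem_univ v) (mem_cm hb)
  have hmain : m ≤ ms A (RR ⊔ DFix A D) := by
    rw [hRR]
    refine Finset.sup_induction (p := fun L => m ≤ ms A (L ⊔ DFix A D)) ?_ ?_ ?_
    · rw [bot_sup_eq]
      refine Nat.mul_le_mul_right _ (Subgroup.card_le_of_le fun a ha => ⟨ha, fun v hv => hv a ha⟩)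
    · intro L hL L' hL'
      have h3 := ms_super A (L ⊔ DFix A D) (L' ⊔ DFix A D)
      have h4 : (L ⊔ DFix A D) ⊔ (L' ⊔ DFix A D) = L ⊔ L' ⊔ DFix A D := (sup_sup_distrib_right L L' _).symm
      rw [h4] at h3
      have h5 := ms_le hAB ((L ⊔ DFix A D) ⊓ (L' ⊔ DFix A D))
      have h6 : m * m ≤ ms A (L ⊔ L' ⊔ DFix A D) * m :=
        (Nat.mul_le_mul hL hL').trans (h3.trans (Nat.mul_le_mul_left _ h5))
      exact Nat.le_of_mul_le_mul_right h6 hm0
    · intro v _
      exact le_ms_cm hAB.1 v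
  set B := kr A (RR ⊔ DFix A D) with hB
  have hBA : B ≤ A := kr_le
  have hle : RR ⊔ DFix A D ≤ DFix B D := fun v hv u hu => hu.2 v hv
  have hcard1 : m ≤ Nat.card B * Nat.card (RR ⊔ DFix A D : AddSubgroup D) := hmain
  have hcard2 := hAB.2 B hBA
  have hcard3 : Nat.card (RR ⊔ DFix A D : AddSubgroup D) = Nat.card (DFix B D) := by
    refine le_antisymm (H263.FF.Basic.card_le hle) ?_
    exact Nat.le_of_mul_le_mul_left (hcard2.trans hcard1) Nat.card_pos
  have hfix : RR ⊔ DFix A D = DFix B D := H263.FF.Basic.eq_of_card_le hle hcard3.ge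
  have hBm : Nat.card B * Nat.card (DFix B D) = m := le_antisymm hcard2 (by rw [← hcard3]; exact hcard1)
  refine ⟨B, hBA, ?_, ⟨fun a ha b hb => hAB.1 a (hBA ha) b (hBA hb), fun B' hB' => ?_⟩, ?_, hBm⟩
  · intro hbot
    by_cases htr : DFix A D = ⊤
    · apply h1
      rw [eq_bot_iff, ← hbot]
      intro a ha
      refine ⟨ha, fun v _ => ?_⟩
      have : v ∈ DFix A D := by rw [htr]; trivial
      exact this a ha
    · obtain ⟨K, hK1, hK2, hK3⟩ := exists_proper' hD hA htr
      apply hK2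
      have h2 : RR ≤ K := Finset.sup_le fun v _ => (AddSubgroup.closure_le _).2 (by
        rintro _ ⟨b, hb, rfl⟩
        exact hK3 b hb v)
      rw [eq_top_iff]
      intro v _
      have h3 : v ∈ DFix B D := by
        intro u hu
        rw [hbot, Subgroup.mem_bot] at hu
        rw [hu, one_smul]
      rw [← hfix] at h3
      exact (sup_le h2 hK1) h3
  · rw [hBm]
    exact hAB.2 B' (hB'.trans hBA)
  · intro M hMB hMp z hz hpz a ha haM
    set δ := a • z - z with hδ
    have haδ : a • δ = δ := ha.2 δ (le_sup_left (a := RR) (hmem a (hBA ha) z))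
    have hpow : ∀ i : ℕ, a ^ i • z = z + i • δ := by
      intro i
      induction i with
      | zero => rw [pow_zero, one_smul, zero_smul, add_zero]
      | succ i ih =>
        rw [pow_succ', mul_smul, ih, smul_add, smul_comm a i δ, haδ, succ_nsmul, ← add_assoc]
        have : a • z = z + δ := by rw [hδ]; abel
        rw [this]
        abel
    have hpδ : p • δ = 0 := by
      rw [hδ, smul_sub, smul_comm p a z, hpz a ha, sub_self]
    have hodd : p % 2 = 1 := hp.out.eq_two_or_odd.resolve_left hp2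
    rw [Finset.sum_congr rfl fun i _ => hpow i, Finset.sum_add_distrib, Finset.sum_const, Finset.card_range,
      ← Finset.sum_smul, Finset.sum_range_id]
    have h5 : p * (p - 1) / 2 = ((p - 1) / 2) * p := by
      obtain ⟨k, hk⟩ : ∃ k, p = 2 * k + 1 := ⟨p / 2, by omega⟩
      have h6 : p - 1 = 2 * k := by omega
      rw [h6, Nat.mul_div_cancel_left _ (by norm_num), show p * (2 * k) = 2 * (k * p) by ring,
        Nat.mul_div_cancel_left _ (by norm_num)]
    rw [h5, mul_smul, hpδ, smul_zero, add_zero]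

end Cfsg.Agent.H296.Lim
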